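import Groth.Agent.Lib.Compl.Noetherian
import Groth.Agent.Lib.Compl.Complete
import Groth.Agent.Lib.FlatH4.LocCrit
import Mathlib.RingTheory.AdicCompletion.LocalRing
import Mathlib.RingTheory.AdicCompletion.Functoriality
import Mathlib.RingTheory.Flat.FaithfullyFlat.Algebra
import Mathlib.RingTheory.Flat.Localization
import Mathlib.RingTheory.Unramified.LocalRing
import Mathlib.LinearAlgebra.TensorProduct.Quotient

/-!
# Completions of local homomorphisms of Noetherian local rings
-/

set_option autoImplicit false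
set_option linter.style.haveILetI false
universe u

open IsLocalRing TensorProduct

namespace Groth.Agent.CplLocH7

/-- The completion of a local ring. -/
abbrev Cpl (A : Type u) [CommRing A] [IsLocalRing A] : Type u := AdicCompletion (maximalIdeal A) A

section One

variable (A : Type u) [CommRing A] [IsLocalRing A] [IsNoetherianRing A]

instance isNoetherianRing_cpl : IsNoetherianRing (Cpl A) :=
  letI : Field (A ⧸ maximalIdeal A) := Ideal.Quotient.field _
  Compl.isNoetherianRing_adicCompletion _ (maximalIdeal A).fg_of_isNoetherianRing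

theorem maximalIdeal_cpl : maximalIdeal (Cpl A) = (maximalIdeal A).map (algebraMap A (Cpl A)) :=
  AdicCompletion.maximalIdeal_eq_map_of_fg (maximalIdeal A).fg_of_isNoetherianRing

theorem faithfullyFlat_cpl : Module.FaithfullyFlat A (Cpl A) :=
  haveI : Module.Flat A (Cpl A) := AdicCompletion.flat_of_isNoetherian _
  Module.FaithfullyFlat.of_flat_of_isLocalHom

variable {A}

theorem exists_sub_mem_pow (n : ℕ) (x : Cpl A) :
    ∃ a : A, x - algebraMap A (Cpl A) a ∈ maximalIdeal (Cpl A) ^ n := by
  obtain ⟨a, ha⟩ := Ideal.Quotient.mk_surjective (AdicCompletion.evalₐ (maximalIdeal A) n x)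
  refine ⟨a, ?_⟩
  have h2 : AdicCompletion.evalₐ (maximalIdeal A) n (x - algebraMap A (Cpl A) a) = 0 := by
    rw [map_sub, AlgHom.commutes, ← ha]; exact sub_self _
  have h3 : x - algebraMap A (Cpl A) a ∈ LinearMap.ker (AdicCompletion.eval (maximalIdeal A) A n) :=
    (map_eq_zero_iff (Ideal.quotientEquivAlgOfEq A (Ideal.mul_top _)) (AlgEquiv.injective _)).mp h2
  rw [← AdicCompletion.pow_smul_top_eq_ker_eval (maximalIdeal A).fg_of_isNoetherianRing,
    Ideal.smul_top_eq_map, Ideal.map_pow, ← maximalIdeal_cpl] at h3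
  exact h3

theorem mem_pow_iff (n : ℕ) (a : A) :
    algebraMap A (Cpl A) a ∈ maximalIdeal (Cpl A) ^ n ↔ a ∈ maximalIdeal A ^ n := by
  haveI := faithfullyFlat_cpl A
  rw [maximalIdeal_cpl, ← Ideal.map_pow, ← Ideal.mem_comap,
    Ideal.comap_map_eq_self_of_faithfullyFlat]

end One

section Pair

variable {A B : Type u} [CommRing A] [CommRing B] [IsLocalRing A] [IsLocalRing B]
  [IsNoetherianRing A] [IsNoetherianRing B] [Algebra A B] [IsLocalHom (algebraMap A B)]
  [Algebra (Cpl A) (Cpl B)] [IsScalarTower A (Cpl A) (Cpl B)]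

theorem map_maximalIdeal_cpl :
    (maximalIdeal (Cpl A)).map (algebraMap (Cpl A) (Cpl B)) =
      ((maximalIdeal A).map (algebraMap A B)).map (algebraMap B (Cpl B)) := by
  rw [maximalIdeal_cpl A, Ideal.map_map, Ideal.map_map, ← IsScalarTower.algebraMap_eq,
    ← IsScalarTower.algebraMap_eq]

theorem map_maximalIdeal_le :
    (maximalIdeal (Cpl A)).map (algebraMap (Cpl A) (Cpl B)) ≤ maximalIdeal (Cpl B) := by
  rw [map_maximalIdeal_cpl, maximalIdeal_cpl B]
  exact Ideal.map_mono (Ideal.map_le_iff_le_comap.2 fun x hx => map_nonunit (algebraMap A B) x hx)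

instance isLocalHom_cpl : IsLocalHom (algebraMap (Cpl A) (Cpl B)) :=
  ((IsLocalRing.local_hom_TFAE (algebraMap (Cpl A) (Cpl B))).out 2 0).1 map_maximalIdeal_le

theorem map_maximalIdeal_eq_iff :
    (maximalIdeal (Cpl A)).map (algebraMap (Cpl A) (Cpl B)) = maximalIdeal (Cpl B) ↔
      (maximalIdeal A).map (algebraMap A B) = maximalIdeal B := by
  rw [map_maximalIdeal_cpl, maximalIdeal_cpl B]
  refine ⟨fun h => ?_, fun h => by rw [h]⟩
  haveI := faithfullyFlat_cpl B
  rw [← Ideal.comap_map_eq_self_of_faithfullyFlat (B := Cpl B) ((maximalIdeal A).map (algebraMap A B)), h,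
    Ideal.comap_map_eq_self_of_faithfullyFlat]

theorem flat_iff : Module.Flat (Cpl A) (Cpl B) ↔ Module.Flat A B := by
  haveI := faithfullyFlat_cpl A
  haveI := faithfullyFlat_cpl B
  constructor
  · intro h
    haveI : Module.Flat A (Cpl B) := Module.Flat.trans A (Cpl A) _
    rw [Module.Flat.iff_lTensor_preserves_injective_linearMap]
    intro N P _ _ _ _ f hf
    let g : B ⊗[A] N →ₗ[B] B ⊗[A] P := f.baseChange B
    suffices Function.Injective g by exact this
    rw [← Module.FaithfullyFlat.lTensor_injective_iff_injective B (Cpl B)]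
    have h : Function.Injective (f.lTensor (Cpl B)) := Module.Flat.lTensor_preserves_injective_linearMap f hf
    have heq : (AlgebraTensorModule.cancelBaseChange A B B (Cpl B) P).toLinearMap ∘ₗ g.lTensor (Cpl B) =
        (AlgebraTensorModule.map LinearMap.id f : Cpl B ⊗[A] N →ₗ[B] Cpl B ⊗[A] P) ∘ₗ
          (AlgebraTensorModule.cancelBaseChange A B B (Cpl B) N).toLinearMap := by
      ext c n
      simp [g]
    have h2 : Function.Injective ((AlgebraTensorModule.cancelBaseChange A B B (Cpl B) P).toLinearMap ∘ₗ g.lTensor (Cpl B)) := by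
      rw [heq]
      exact h.comp (AlgebraTensorModule.cancelBaseChange A B B (Cpl B) N).injective
    exact fun a b hab => h2 (by simp only [LinearMap.comp_apply, hab])
  · intro h
    haveI : Module.Flat A (Cpl B) := Module.Flat.trans A B _
    refine FlatH4.flat_of_forall_flat_quotient_pow (S := Cpl B) (maximalIdeal (Cpl A)) ?_ fun n _ => ?_
    · exact map_maximalIdeal_le.trans (IsLocalRing.jacobson_eq_maximalIdeal (⊥ : Ideal (Cpl B)) bot_ne_top).ge
    let I := maximalIdeal A ^ n
    let J := maximalIdeal (Cpl A) ^ n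
    have hIJ : J = I.map (algebraMap A (Cpl A)) := by
      show _ ^ n = _
      rw [maximalIdeal_cpl, ← Ideal.map_pow]
    letI : Algebra (A ⧸ I) (Cpl A ⧸ J) := Ideal.Quotient.algebraQuotientOfLEComap
      (show I ≤ J.comap (algebraMap A (Cpl A)) from fun a ha => (mem_pow_iff n a).2 ha)
    haveI : IsScalarTower A (A ⧸ I) (Cpl A ⧸ J) := IsScalarTower.of_algebraMap_eq fun _ => rfl
    have hbij : Function.Bijective (algebraMap (A ⧸ I) (Cpl A ⧸ J)) := by
      refine ⟨(injective_iff_map_eq_zero _).2 fun y hy => ?_, fun y => ?_⟩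
      · obtain ⟨a, rfl⟩ := Ideal.Quotient.mk_surjective y
        exact Ideal.Quotient.eq_zero_iff_mem.2 ((mem_pow_iff n a).1 (Ideal.Quotient.eq_zero_iff_mem.1 hy))
      · obtain ⟨x, rfl⟩ := Ideal.Quotient.mk_surjective y
        obtain ⟨a, ha⟩ := exists_sub_mem_pow n x
        exact ⟨Ideal.Quotient.mk I a, (Ideal.Quotient.eq.2 ha).symm⟩
    haveI : IsLocalization (⊥ : Submonoid (A ⧸ I)) (Cpl A ⧸ J) :=
      (isLocalization_iff _ _).2 ⟨fun y => by rw [Submonoid.mem_bot.1 y.2, map_one]; exact isUnit_one,
        fun z => ⟨((hbij.2 z).choose, 1), by simp [(hbij.2 z).choose_spec]⟩,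
        fun h => ⟨1, by rw [hbij.1 h]⟩⟩
    rw [Module.flat_iff_of_isLocalization (R := A ⧸ I) (Cpl A ⧸ J) ⊥]
    have hsm : (J • ⊤ : Submodule (Cpl A) (Cpl B)).restrictScalars A = I • ⊤ := by
      rw [hIJ, Ideal.smul_restrictScalars, Submodule.restrictScalars_top]
    let e : ((Cpl A ⧸ J) ⊗[Cpl A] Cpl B) ≃ₗ[A] (A ⧸ I) ⊗[A] Cpl B :=
      (TensorProduct.quotTensorEquivQuotSMul (Cpl B) J).restrictScalars A ≪≫ₗ
      (Submodule.Quotient.restrictScalarsEquiv A (J • ⊤ : Submodule (Cpl A) (Cpl B))).symm ≪≫ₗ
      Submodule.quotEquivOfEq _ _ hsm ≪≫ₗ (TensorProduct.quotTensorEquivQuotSMul (Cpl B) I).symm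
    exact Module.Flat.of_linearEquiv (e.extendScalarsOfSurjective Ideal.Quotient.mk_surjective)

/-- The residue fields of the completions are those of the rings. -/
noncomputable def residueEquiv (A : Type u) [CommRing A] [IsLocalRing A] [IsNoetherianRing A] :
    ResidueField A ≃+* ResidueField (Cpl A) :=
  RingEquiv.ofBijective _ (AdicCompletion.residueField_map_bijective (R := A))

theorem residueEquiv_comm :
    (algebraMap (ResidueField (Cpl A)) (ResidueField (Cpl B))).comp (residueEquiv A).toRingHom =
      (residueEquiv B).toRingHom.comp (algebraMap (ResidueField A) (ResidueField B)) := by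
  refine RingHom.ext fun a => ?_
  obtain ⟨a, rfl⟩ := IsLocalRing.residue_surjective a
  show residue (Cpl B) (algebraMap (Cpl A) (Cpl B) (algebraMap A (Cpl A) a)) =
    residue (Cpl B) (algebraMap B (Cpl B) (algebraMap A B a))
  rw [← IsScalarTower.algebraMap_apply, ← IsScalarTower.algebraMap_apply]

theorem residue_finite_iff :
    Module.Finite (ResidueField (Cpl A)) (ResidueField (Cpl B)) ↔ Module.Finite (ResidueField A) (ResidueField B) := by
  constructor
  · intro h
    refine Module.Finite.of_equiv_equiv (residueEquiv A).symm (residueEquiv B).symm ?_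
    refine RingHom.ext fun a => (residueEquiv B).injective ?_
    have := RingHom.congr_fun (residueEquiv_comm (A := A) (B := B)) ((residueEquiv A).symm a)
    simpa using this.symm
  · intro h
    exact Module.Finite.of_equiv_equiv (residueEquiv A) (residueEquiv B) residueEquiv_comm

theorem residue_isSeparable_iff :
    Algebra.IsSeparable (ResidueField (Cpl A)) (ResidueField (Cpl B)) ↔ Algebra.IsSeparable (ResidueField A) (ResidueField B) := by
  constructor
  · intro h
    refine Algebra.IsSeparable.of_equiv_equiv (residueEquiv A).symm (residueEquiv B).symm ?_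
    refine RingHom.ext fun a => (residueEquiv B).injective ?_
    have := RingHom.congr_fun (residueEquiv_comm (A := A) (B := B)) ((residueEquiv A).symm a)
    simpa using this.symm
  · intro h
    exact Algebra.IsSeparable.of_equiv_equiv (residueEquiv A) (residueEquiv B) residueEquiv_comm

/-- Elements of `B` spanning the residue field over `A` span the completion. -/
theorem surjective_linearCombination (hm : (maximalIdeal A).map (algebraMap A B) = maximalIdeal B)
    {ι : Type} [Fintype ι] (e : ι → B)
    (he : ∀ b : B, ∃ c : ι → A, b - ∑ i, c i • e i ∈ maximalIdeal B) :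
    Function.Surjective (Fintype.linearCombination (Cpl A) (fun i => algebraMap B (Cpl B) (e i))) := by
  set mA := maximalIdeal (Cpl A)
  have hm' : mA.map (algebraMap (Cpl A) (Cpl B)) = maximalIdeal (Cpl B) := map_maximalIdeal_eq_iff.2 hm
  haveI : IsAdicComplete mA (ι → Cpl A) := Compl.isAdicComplete_of_finite mA _
  haveI : IsHausdorff mA (Cpl B) := by
    haveI : IsHausdorff (mA.map (algebraMap (Cpl A) (Cpl B))) (Cpl B) := by rw [hm']; infer_instance
    exact IsHausdorff.map_algebraMap_iff.1 this
  refine surjective_of_mkQ_comp_surjective (I := mA) fun y => ?_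
  obtain ⟨y, rfl⟩ := Submodule.mkQ_surjective _ y
  obtain ⟨b, hb⟩ := exists_sub_mem_pow (A := B) 1 y
  rw [pow_one] at hb
  obtain ⟨c, hc⟩ := he b
  refine ⟨fun i => algebraMap A (Cpl A) (c i), ?_⟩
  rw [LinearMap.comp_apply, Submodule.mkQ_apply, Submodule.mkQ_apply, Submodule.Quotient.eq,
    Ideal.smul_top_eq_map, Submodule.restrictScalars_mem, hm', ← neg_mem_iff, neg_sub]
  have h2 : algebraMap B (Cpl B) (b - ∑ i, c i • e i) ∈ maximalIdeal (Cpl B) := by
    rw [maximalIdeal_cpl B]; exact Ideal.mem_map_of_mem _ hc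
  have h3 : algebraMap B (Cpl B) (∑ i, c i • e i) =
      Fintype.linearCombination (Cpl A) (fun i => algebraMap B (Cpl B) (e i)) (fun i => algebraMap A (Cpl A) (c i)) := by
    rw [Fintype.linearCombination_apply, map_sum]
    refine Finset.sum_congr rfl fun i _ => ?_
    rw [algebraMap_smul, Algebra.smul_def, Algebra.smul_def, map_mul, ← IsScalarTower.algebraMap_apply]
  rw [map_sub, h3] at h2
  have := add_mem hb h2
  rwa [← add_sub_assoc, sub_add_cancel] at this

theorem finite (hm : (maximalIdeal A).map (algebraMap A B) = maximalIdeal B)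
    [Module.Finite (ResidueField A) (ResidueField B)] : Module.Finite (Cpl A) (Cpl B) := by
  obtain ⟨t, s, hs⟩ := Module.Finite.exists_fin' (ResidueField A) (ResidueField B)
  choose e he using fun i => IsLocalRing.residue_surjective (R := B) (s (Pi.single i 1))
  refine Module.Finite.of_surjective _ (surjective_linearCombination (A := A) hm e fun b => ?_)
  obtain ⟨z, hz⟩ := hs (residue B b)
  choose c hc using fun i => IsLocalRing.residue_surjective (R := A) (z i)
  refine ⟨c, ?_⟩
  rw [← IsLocalRing.residue_eq_zero_iff, map_sub, map_sum, ← hz, sub_eq_zero]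
  conv_lhs => rw [show z = ∑ i, z i • Pi.single i (1 : ResidueField A) from (pi_eq_sum_univ' z), map_sum]
  refine Finset.sum_congr rfl fun i _ => ?_
  rw [map_smul, ← he, ← hc, Algebra.smul_def, Algebra.smul_def, map_mul]
  rfl

theorem formallyUnramified_iff [Algebra.EssFiniteType (Cpl A) (Cpl B)] :
    Algebra.FormallyUnramified (Cpl A) (Cpl B) ↔
      (maximalIdeal A).map (algebraMap A B) = maximalIdeal B ∧
        Algebra.IsSeparable (ResidueField A) (ResidueField B) := by
  rw [Algebra.FormallyUnramified.iff_map_maximalIdeal_eq, map_maximalIdeal_eq_iff, residue_isSeparable_iff, and_comm]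

end Pair

end Groth.Agent.CplLocH7
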